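import Mathlib
import Groth.Agent.LiaisonLib.Colon
import Groth.Agent.GorLib.Ring

/-!
# Lengths of linked ideals at a component of a Gorenstein quotient
-/

set_option autoImplicit false
set_option linter.style.haveILetI false
set_option backward.isDefEq.respectTransparency false

universe u

open IsLocalRing

namespace Groth.Agent.LinkDegLib

/-- In an Artinian Gorenstein local ring the annihilator of `i` has the length of the quotient by `i`. -/
theorem length_ann_add {L : Type u} [CommRing L] [IsLocalRing L] [IsArtinianRing L]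
    (h : LocCoh.IsGorensteinLocalRing L) (i : Ideal L) :
    Module.length L (L ⧸ Submodule.annihilator i) + Module.length L (L ⧸ i) = Module.length L L := by
  have hdbl : ∀ J : Ideal L, Submodule.annihilator (Submodule.annihilator J : Ideal L) = J := fun J =>
    le_antisymm
      (fun x hx => LiaisonLib.mem_of_double_ann h J x fun a ha => by
        rw [mul_comm]
        exact Submodule.mem_annihilator.1 hx a (Submodule.mem_annihilator.2 ha))
      fun x hx => Submodule.mem_annihilator.2 fun a ha => by
        rw [smul_eq_mul, mul_comm]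
        exact Submodule.mem_annihilator.1 ha x hx
  let e : Ideal L ≃o (Ideal L)ᵒᵈ :=
    { toFun := fun J => OrderDual.toDual (Submodule.annihilator J)
      invFun := fun J => Submodule.annihilator (OrderDual.ofDual J)
      left_inv := hdbl
      right_inv := hdbl
      map_rel_iff' := fun {a b} =>
        ⟨fun hab => by
          have := Submodule.annihilator_mono (show Submodule.annihilator b ≤ Submodule.annihilator a from hab)
          rwa [hdbl, hdbl] at this, fun hab => Submodule.annihilator_mono hab⟩ }
  have key : Module.length L (L ⧸ i) = Module.length L (Submodule.annihilator i : Ideal L) := by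
    rw [Module.length_quotient, Module.length_submodule]
    exact (Order.coheight_orderIso e i).symm
  rw [key, add_comm]
  exact (Module.length_eq_add_of_exact (Submodule.annihilator i : Ideal L).subtype
    (Submodule.annihilator i : Ideal L).mkQ Subtype.val_injective (Submodule.mkQ_surjective _)
    (LinearMap.exact_subtype_mkQ _)).symm

variable {R : Type u} [CommRing R] [IsNoetherianRing R]

/-- The length at `P` of `R ⧸ a`. -/
noncomputable def lenAt (P : Ideal R) [P.IsPrime] (a : Ideal R) : ℕ∞ :=
  Module.length (Localization.AtPrime P) (LocalizedModule P.primeCompl (R ⧸ a))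

omit [IsNoetherianRing R] in
theorem lenAt_eq_quot (P : Ideal R) [P.IsPrime] (a : Ideal R) :
    lenAt P a = Module.length (Localization.AtPrime P)
      (Localization.AtPrime P ⧸ a.map (algebraMap R (Localization.AtPrime P))) :=
  (((IsLocalizedModule.linearEquiv P.primeCompl (LocalizedModule.mkLinearMap P.primeCompl (R ⧸ a))
      (Submodule.toLocalizedQuotient' (Localization.AtPrime P) P.primeCompl
        (Algebra.linearMap R (Localization.AtPrime P)) a)).extendScalarsOfIsLocalization P.primeCompl
      (Localization.AtPrime P)).trans (Submodule.quotEquivOfEq _ _ (Ideal.localized'_eq_map _ _ a))).length_eq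

omit [IsNoetherianRing R] in
theorem lenAt_eq_zero (P : Ideal R) [P.IsPrime] (a : Ideal R) (h : ¬ a ≤ P) : lenAt P a = 0 := by
  rw [lenAt_eq_quot]
  haveI : Subsingleton (Localization.AtPrime P ⧸ a.map (algebraMap R (Localization.AtPrime P))) := by
    obtain ⟨x, hx, hxP⟩ := SetLike.not_le_iff_exists.1 h
    exact Ideal.Quotient.subsingleton_iff.2 (Ideal.eq_top_of_isUnit_mem _ (Ideal.mem_map_of_mem _ hx)
      (IsLocalization.map_units _ (⟨x, hxP⟩ : P.primeCompl)))
  exact Module.length_eq_zero

/-- At a minimal prime of a Gorenstein quotient the lengths of linked ideals add up. -/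
theorem lenAt_link (c I : Ideal R) [LocCoh.IsGorensteinRing (R ⧸ c)] (hcI : c ≤ I) (P : Ideal R) [P.IsPrime]
    (hP : P ∈ c.minimalPrimes) :
    lenAt P (c.colon (I : Set R)) + lenAt P I = lenAt P c ∧ lenAt P c ≠ ⊤ := by
  classical
  have hcP : c ≤ P := hP.1.2
  let A := R ⧸ c
  let P' : Ideal A := P.map (Ideal.Quotient.mk c)
  haveI hP' : P'.IsPrime :=
    Ideal.map_isPrime_of_surjective Ideal.Quotient.mk_surjective (by rw [Ideal.mk_ker]; exact hcP)
  have hP'min : P' ∈ minimalPrimes A := by
    refine ⟨⟨hP', bot_le⟩, fun Q hQ hle => ?_⟩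
    haveI := hQ.1
    have h1 : c ≤ Q.comap (Ideal.Quotient.mk c) := fun r hr => by
      rw [Ideal.mem_comap, Ideal.Quotient.eq_zero_iff_mem.2 hr]; exact zero_mem _
    have h2 := hP.2 ⟨inferInstance, h1⟩ ((Ideal.comap_mono hle).trans (Ideal.comap_map_mk hcP).le)
    calc P' ≤ (Q.comap (Ideal.Quotient.mk c)).map (Ideal.Quotient.mk c) := Ideal.map_mono h2
      _ ≤ Q := Ideal.map_comap_le
  let L := Localization.AtPrime P'
  haveI : IsArtinianRing L := by
    haveI : IsNoetherianRing L := IsLocalization.isNoetherianRing P'.primeCompl L inferInstance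
    haveI : Ring.KrullDimLE 0 L := Ring.krullDimLE_iff.2 (by
      rw [IsLocalization.AtPrime.ringKrullDim_eq_height P']
      have h0 : P'.height = 0 := Ideal.height_eq_zero_iff.2 hP'min
      rw [h0]; exact le_rfl)
    exact isArtinianRing_iff_isNoetherianRing_krullDimLE_zero.2 ⟨inferInstance, inferInstance⟩
  have hG : LocCoh.IsGorensteinLocalRing L := LocCoh.IsGorensteinRing.isGorensteinLocalRing_localization P'
  let φ : R →+* L := (algebraMap A L).comp (Ideal.Quotient.mk c)
  have hzero : ∀ r : R, φ r = 0 → ∃ u ∉ P, u * r ∈ c := fun r hr => by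
    obtain ⟨⟨u', hu'⟩, hur⟩ := (IsLocalization.map_eq_zero_iff P'.primeCompl L _).1 hr
    obtain ⟨u, rfl⟩ := Ideal.Quotient.mk_surjective u'
    refine ⟨u, fun hu => hu' (Ideal.mem_map_of_mem _ hu), Ideal.Quotient.eq_zero_iff_mem.1 ?_⟩
    rw [map_mul]; exact hur
  have hunit : ∀ u ∉ P, IsUnit (φ u) := fun u hu => IsLocalization.map_units L
    (⟨Ideal.Quotient.mk c u, fun h => hu ((Ideal.comap_map_mk hcP).le h)⟩ : P'.primeCompl)
  have hfrac : ∀ z : L, ∃ r, ∃ u ∉ P, z * φ u = φ r := fun z => by
    obtain ⟨⟨a', ⟨u', hu'⟩⟩, hz⟩ := IsLocalization.surj P'.primeCompl z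
    obtain ⟨a, rfl⟩ := Ideal.Quotient.mk_surjective a'
    obtain ⟨u, rfl⟩ := Ideal.Quotient.mk_surjective u'
    exact ⟨a, u, fun hu => hu' (Ideal.mem_map_of_mem _ hu), hz⟩
  let R_P := Localization.AtPrime P
  let ψ : R_P →+* L := IsLocalization.lift (M := P.primeCompl) (g := φ) fun u => hunit u.1 u.2
  have hψ : ∀ r, ψ (algebraMap R R_P r) = φ r := fun r => IsLocalization.lift_eq _ r
  have hψs : Function.Surjective ψ := fun z => by
    obtain ⟨r, u, hu, hz⟩ := hfrac z
    obtain ⟨v, hv⟩ := IsLocalization.map_units R_P (⟨u, hu⟩ : P.primeCompl)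
    refine ⟨algebraMap R R_P r * ↑v⁻¹, (hunit u hu).mul_left_inj.1 ?_⟩
    rw [hz, map_mul, mul_assoc, ← hψ u, ← map_mul ψ, show (↑v⁻¹ : R_P) * algebraMap R R_P u = 1 by
      rw [← hv, Units.inv_mul], map_one, mul_one, hψ]
  letI : Algebra R_P L := ψ.toAlgebra
  have hlen : ∀ a : Ideal R, c ≤ a → lenAt P a = Module.length L (L ⧸ a.map φ) := by
    intro a hca
    rw [lenAt_eq_quot]
    let g : R_P →ₐ[R_P] L ⧸ a.map φ := Algebra.ofId R_P (L ⧸ a.map φ)
    have hg : Function.Surjective g := Ideal.Quotient.mk_surjective.comp hψs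
    have hker : RingHom.ker g = a.map (algebraMap R R_P) := by
      refine le_antisymm (fun x hx => ?_) (Ideal.map_le_iff_le_comap.2 fun r hr => ?_)
      · obtain ⟨⟨r, u⟩, hru⟩ := IsLocalization.surj P.primeCompl x
        have h1 : Ideal.Quotient.mk (a.map φ) (ψ x) = 0 := hx
        rw [Ideal.Quotient.eq_zero_iff_mem] at h1
        have h2 : φ r ∈ a.map φ := by
          rw [← hψ, ← hru, map_mul]; exact Ideal.mul_mem_right _ _ h1
        rw [show a.map φ = (a.map (Ideal.Quotient.mk c)).map (algebraMap A L) from (Ideal.map_map _ _).symm,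
          show φ r = algebraMap A L (Ideal.Quotient.mk c r) from rfl,
          IsLocalization.algebraMap_mem_map_algebraMap_iff P'.primeCompl] at h2
        obtain ⟨w', hw', hwr⟩ := h2
        obtain ⟨w, rfl⟩ := Ideal.Quotient.mk_surjective w'
        rw [← map_mul, ← Ideal.mem_comap, Ideal.comap_map_of_surjective _ Ideal.Quotient.mk_surjective,
          ← RingHom.ker_eq_comap_bot, Ideal.mk_ker, sup_eq_left.2 hca] at hwr
        obtain ⟨v, hv⟩ := IsLocalization.map_units R_P
          (⟨w * u.1, P.primeCompl.mul_mem (fun h => hw' (Ideal.mem_map_of_mem _ h)) u.2⟩ : P.primeCompl)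
        have h3 : algebraMap R R_P (w * r) = x * ↑v := by
          rw [hv, map_mul, map_mul, ← hru]; ring
        rw [← Units.mul_inv_cancel_right x v, ← h3]
        exact Ideal.mul_mem_right _ _ (Ideal.mem_map_of_mem _ hwr)
      · show Ideal.Quotient.mk (a.map φ) (ψ (algebraMap R R_P r)) = 0
        rw [hψ, Ideal.Quotient.eq_zero_iff_mem]
        exact Ideal.mem_map_of_mem _ hr
    rw [← Module.length_eq_of_surjective (S := R_P) (R := L) hψs]
    exact ((Ideal.quotientEquivAlgOfEq R_P hker).symm.trans
      (Ideal.quotientKerAlgEquivOfSurjective hg)).toLinearEquiv.length_eq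
  have hc0 : c.map φ = ⊥ := (Ideal.map_eq_bot_iff_le_ker φ).2 fun r hr => by
    show algebraMap A L (Ideal.Quotient.mk c r) = 0
    rw [Ideal.Quotient.eq_zero_iff_mem.2 hr, map_zero]
  have hann : (c.colon (I : Set R)).map φ = Submodule.annihilator (I.map φ) := by
    refine le_antisymm (Ideal.map_le_iff_le_comap.2 fun r hr => Submodule.mem_annihilator.2 fun y hy => ?_)
      fun z hz => ?_
    · rw [smul_eq_mul, mul_comm]
      induction hy using Submodule.span_induction with
      | mem y hy =>
        obtain ⟨i, hi, rfl⟩ := hy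
        rw [← map_mul, mul_comm, ← Ideal.mem_bot, ← hc0]
        exact Ideal.mem_map_of_mem _ (LiaisonLib.mem_colon_ideal.1 hr i hi)
      | zero => rw [zero_mul]
      | add y y' _ _ h h' => rw [add_mul, h, h', add_zero]
      | smul w y _ h => rw [smul_eq_mul, mul_assoc, h, mul_zero]
    · obtain ⟨r, u, hu, hr⟩ := hfrac z
      obtain ⟨G, hG⟩ : I.FG := IsNoetherian.noetherian I
      have hG' : ∀ i ∈ G, ∃ v ∉ P, v * (r * i) ∈ c := fun i hi => hzero _ (by
        rw [map_mul, ← hr, mul_right_comm,
          show z * φ i = 0 from Submodule.mem_annihilator.1 hz _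
            (Ideal.mem_map_of_mem φ (hG ▸ Ideal.subset_span hi)), zero_mul])
      choose v hv hvc using hG'
      let V := ∏ i ∈ G.attach, v i.1 i.2
      have hV : V ∉ P := fun h => by
        obtain ⟨i, -, hi⟩ := (Ideal.IsPrime.prod_mem_iff (p := P)).1 h
        exact hv _ _ hi
      have hVr : V * r ∈ c.colon (I : Set R) := by
        rw [LiaisonLib.mem_colon_ideal]
        have hle : I ≤ c.colon ({V * r} : Set R) := by
          rw [← hG]
          refine Ideal.span_le.2 fun i hi => ?_
          rw [SetLike.mem_coe, Submodule.mem_colon_singleton, smul_eq_mul]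
          obtain ⟨w, hw⟩ := Finset.dvd_prod_of_mem (fun i : {x // x ∈ G} => v i.1 i.2)
            (Finset.mem_attach G ⟨i, hi⟩)
          rw [show i * (V * r) = w * (v i hi * (r * i)) by rw [show V = v i hi * w from hw]; ring]
          exact c.mul_mem_left _ (hvc i hi)
        intro i hi
        have h1 := hle hi
        rwa [Submodule.mem_colon_singleton, smul_eq_mul, mul_comm] at h1
      obtain ⟨s, hs⟩ := (hunit V hV).mul (hunit u hu)
      have h1 : z * ↑s = φ (V * r) := by rw [hs, map_mul, ← hr]; ring
      rw [← Units.mul_inv_cancel_right z s, h1]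
      exact Ideal.mul_mem_right _ _ (Ideal.mem_map_of_mem _ hVr)
  rw [hlen _ (LiaisonLib.le_colon c I), hlen _ hcI, hlen c le_rfl, hann, hc0,
    (Submodule.quotEquivOfEqBot (⊥ : Ideal L) rfl).length_eq]
  exact ⟨length_ann_add hG _, Module.length_ne_top⟩

end Groth.Agent.LinkDegLib
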