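import Mathlib
import Groth.Agent.HSLib.ProjMult
import Groth.Agent.HyperCILib.Main
import Groth.Agent.LinkDegLib.Length

/-!
# The top coefficient of the Hilbert polynomial as a sum over the components
-/

set_option autoImplicit false
set_option linter.style.haveILetI false
set_option backward.isDefEq.respectTransparency false

universe u

open Filter MvPolynomial

namespace Groth.Agent.LinkDegLib

variable {k : Type u} [Field k] {n : ℕ}

local notation "Pol" => MvPolynomial (Fin (n + 1)) k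

theorem exists_hilb_poly {a : Ideal Pol} (ha : a.IsHomogeneous (CohB1.polyGrading n k)) :
    ∃ Q : Polynomial ℚ, ∀ᶠ j : ℕ in atTop, Q.eval (j : ℚ) = HSLib.hilb a j := by
  have hfl : ∀ p ∈ Module.support (HSLib.vRing k n) (HSLib.vMod a),
      IsLocalRing.maximalIdeal (HSLib.vRing k n) ≤ p.asIdeal → p.asIdeal.IsMaximal := fun p _ h =>
    (IsLocalRing.maximalIdeal.isMaximal (HSLib.vRing k n)).eq_of_le p.isPrime.ne_top h ▸
      IsLocalRing.maximalIdeal.isMaximal (HSLib.vRing k n)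
  obtain ⟨S, hS⟩ := HSLib.exists_isHSPoly (M := HSLib.vMod a) (IsLocalRing.maximalIdeal (HSLib.vRing k n))
    (HSLib.length_pow_ne_top hfl)
  refine ⟨Polynomial.taylor 1 S - S, ?_⟩
  filter_upwards [hS, (tendsto_add_atTop_nat 1).eventually hS] with j h2 h3
  rw [HSLib.colen_vMod ha] at h2 h3
  rw [Polynomial.eval_sub, Polynomial.taylor_eval]
  push_cast at h3
  rw [← h3, ← h2, Finset.sum_range_succ]
  ring

theorem natDegree_le {a : Ideal Pol} (ha : a.IsHomogeneous (CohB1.polyGrading n k)) {N : ℕ}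
    (hdim : ringKrullDim (Pol ⧸ a) ≤ ((N + 1 : ℕ) : WithBot ℕ∞)) {p : Polynomial ℚ}
    (hp : ∀ᶠ j : ℕ in atTop, p.eval (j : ℚ) = HSLib.hilb a j) : p.natDegree ≤ N := by
  by_cases h0 : p = 0
  · simp [h0]
  obtain ⟨D, hD, -, hD1, -⟩ := HSLib.ringKrullDim_eq_of_hilb ha (HSLib.ne_top_of_hilb hp h0) hp
  rw [hD] at hdim
  have : D ≤ N + 1 := by exact_mod_cast hdim
  have := hD1 h0
  omega

theorem natDegree_le_of_le {a b : Ideal Pol} (ha : a.IsHomogeneous (CohB1.polyGrading n k))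
    (hb : b.IsHomogeneous (CohB1.polyGrading n k)) (hab : a ≤ b) {p q : Polynomial ℚ}
    (hp : ∀ᶠ j : ℕ in atTop, p.eval (j : ℚ) = HSLib.hilb a j)
    (hq : ∀ᶠ j : ℕ in atTop, q.eval (j : ℚ) = HSLib.hilb b j) : q.natDegree ≤ p.natDegree := by
  by_cases hq0 : q = 0
  · simp [hq0]
  by_cases hp0 : p = 0
  · refine absurd (HSLib.eq_of_eventually_eq ?_) hq0
    filter_upwards [hp, hq] with j h1 h2
    rw [hp0, Polynomial.eval_zero] at h1
    rw [h2, Polynomial.eval_zero]
    exact le_antisymm ((HSLib.hilb_anti hab j).trans h1.ge) (HSLib.hilb_nonneg _ _)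
  have ha' : a ≠ ⊤ := HSLib.ne_top_of_hilb hp hp0
  have hb' : b ≠ ⊤ := HSLib.ne_top_of_hilb hq hq0
  obtain ⟨D, hD, -, hD1, -⟩ := HSLib.ringKrullDim_eq_of_hilb ha ha' hp
  obtain ⟨E, hE, -, hE1, -⟩ := HSLib.ringKrullDim_eq_of_hilb hb hb' hq
  have h := ringKrullDim_le_of_surjective (Ideal.Quotient.factor hab) (Ideal.Quotient.factor_surjective _)
  rw [hD, hE] at h
  have : E ≤ D := by exact_mod_cast h
  have := hD1 hp0
  have := hE1 hq0
  omega

/-- The coefficient of degree `N`, `dim (R ⧸ c) ≤ N + 1`, is additive over the components of `c`. -/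
theorem coeff_eq_sum (c : Ideal Pol) (hc : c.IsHomogeneous (CohB1.polyGrading n k)) (N : ℕ)
    (hdim : ringKrullDim (Pol ⧸ c) ≤ ((N + 1 : ℕ) : WithBot ℕ∞))
    (S : Finset (Ideal Pol)) (hS : ∀ P, P ∈ S ↔ P ∈ c.minimalPrimes) :
    ∃ d : Ideal Pol → ℚ, ∀ (a : Ideal Pol), a.IsHomogeneous (CohB1.polyGrading n k) → c ≤ a →
      ∀ p : Polynomial ℚ, (∀ᶠ j : ℕ in atTop, p.eval (j : ℚ) = HSLib.hilb a j) →
        (N.factorial : ℚ) * p.coeff N = ∑ P ∈ S.attach,
          haveI : (P.1).IsPrime := ((hS P.1).1 P.2).1.1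
          d P.1 * ((lenAt P.1 a).toNat : ℚ) := by
  classical
  let Q : Ideal Pol → Polynomial ℚ := fun P =>
    if h : P.IsHomogeneous (CohB1.polyGrading n k) then (exists_hilb_poly h).choose else 0
  have hQ : ∀ P : Ideal Pol, P.IsHomogeneous (CohB1.polyGrading n k) →
      ∀ᶠ j : ℕ in atTop, (Q P).eval (j : ℚ) = HSLib.hilb P j := fun P h => by
    simp only [Q, dif_pos h]
    exact (exists_hilb_poly h).choose_spec
  refine ⟨fun P => (N.factorial : ℚ) * (Q P).coeff N, fun a ha hca p hp => ?_⟩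
  let T : Finset (Ideal Pol) := (Ideal.finite_minimalPrimes_of_isNoetherianRing Pol a).toFinset
  have hT : ∀ q, q ∈ T ↔ q ∈ a.minimalPrimes := fun q => Set.Finite.mem_toFinset _
  let F : Ideal Pol → ℚ := fun q => if h : q.IsPrime then
    (N.factorial : ℚ) * (Q q).coeff N * ((@lenAt _ _ q h a).toNat : ℚ) else 0
  have hdima : ringKrullDim (Pol ⧸ a) ≤ ((N + 1 : ℕ) : WithBot ℕ∞) :=
    (ringKrullDim_le_of_surjective (Ideal.Quotient.factor hca) (Ideal.Quotient.factor_surjective _)).trans hdim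
  have hmain : (N.factorial : ℚ) * p.coeff N = ∑ q ∈ T, F q := by
    have hpN := natDegree_le ha hdima hp
    have hTh : ∀ q ∈ T, q.IsHomogeneous (CohB1.polyGrading n k) := fun q hq =>
      CMGraded.isHomogeneous_of_mem_minimalPrimes (CohB1.polyGrading n k) ha ((hT q).1 hq)
    have hTdeg : ∀ q ∈ T, (Q q).natDegree ≤ p.natDegree := fun q hq =>
      natDegree_le_of_le ha (hTh q hq) ((hT q).1 hq).1.2 hp (hQ q (hTh q hq))
    rcases lt_or_eq_of_le hpN with hlt | heq
    · rw [Polynomial.coeff_eq_zero_of_natDegree_lt hlt, mul_zero, Finset.sum_eq_zero]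
      intro q hq
      simp only [F]
      split_ifs
      · rw [Polynomial.coeff_eq_zero_of_natDegree_lt ((hTdeg q hq).trans_lt hlt), mul_zero, zero_mul]
      · rfl
    · let e := T.equivFin
      let P : Fin T.card → Ideal Pol := fun i => (e.symm i).1
      haveI : ∀ i, (P i).IsPrime := fun i => ((hT _).1 (e.symm i).2).1.1
      have h := HSLib.degree_eq_sum ha hp P (fun i j hij => e.symm.injective (Subtype.ext hij))
        (fun q => ⟨fun hq => ⟨e ⟨q, (hT q).2 hq⟩, by simp [P]⟩, fun ⟨i, hi⟩ => hi ▸ (hT _).1 (e.symm i).2⟩)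
        (fun i => Q (P i)) (fun i => hQ _ (hTh _ (e.symm i).2))
      subst heq
      rw [Polynomial.coeff_natDegree, h, ← Finset.sum_coe_sort T, ← e.symm.sum_comp fun x => F x.1]
      refine Finset.sum_congr rfl fun i _ => ?_
      show _ = F (P i)
      simp only [F]
      rw [dif_pos (inferInstance : (P i).IsPrime)]
      split_ifs with hi
      · rw [Polynomial.leadingCoeff, hi]
        rfl
      · rw [Polynomial.coeff_eq_zero_of_natDegree_lt
          (lt_of_le_of_ne (hTdeg _ (e.symm i).2) hi), mul_zero, zero_mul]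
  rw [hmain]
  have hright : (∑ q ∈ T, F q) = ∑ q ∈ S, F q := by
    rw [← Finset.sum_subset (Finset.inter_subset_left (s₁ := T) (s₂ := S)) ?_,
      ← Finset.sum_subset (Finset.inter_subset_right (s₁ := T) (s₂ := S)) ?_]
    · intro P hP hPT
      haveI := ((hS P).1 hP).1.1
      have hna : ¬ a ≤ P := fun h => hPT (Finset.mem_inter.2 ⟨(hT P).2
        ⟨⟨inferInstance, h⟩, fun P' hP' hle => ((hS P).1 hP).2 ⟨hP'.1, hca.trans hP'.2⟩ hle⟩, hP⟩)
      simp only [F, dif_pos (inferInstance : P.IsPrime)]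
      rw [lenAt_eq_zero P a hna, ENat.toNat_zero, Nat.cast_zero, mul_zero]
    · intro q hq hqS
      have hq' := (hT q).1 hq
      haveI := hq'.1.1
      obtain ⟨P, hP, hPq⟩ := Ideal.exists_minimalPrimes_le (hca.trans hq'.1.2)
      haveI := hP.1.1
      have hlt : P < q := lt_of_le_of_ne hPq fun e =>
        hqS (Finset.mem_inter.2 ⟨hq, (hS q).2 (e ▸ hP)⟩)
      have hqh := CMGraded.isHomogeneous_of_mem_minimalPrimes (CohB1.polyGrading n k) ha hq'
      simp only [F, dif_pos (inferInstance : q.IsPrime)]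
      suffices (Q q).coeff N = 0 by rw [this, mul_zero, zero_mul]
      by_cases h0 : Q q = 0
      · rw [h0, Polynomial.coeff_zero]
      obtain ⟨D, hD, -, hD1, -⟩ := HSLib.ringKrullDim_eq_of_hilb hqh hq'.1.1.ne_top (hQ q hqh)
      have h1 := GrSegreLib.ringKrullDim_quotient_succ_le (p := P) hlt
      have h2 : ringKrullDim (Pol ⧸ P) ≤ ((N + 1 : ℕ) : WithBot ℕ∞) :=
        (ringKrullDim_le_of_surjective (Ideal.Quotient.factor hP.1.2) (Ideal.Quotient.factor_surjective _)).trans hdim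
      rw [hD] at h1
      have h3 : ((D + 1 : ℕ) : WithBot ℕ∞) ≤ ((N + 1 : ℕ) : WithBot ℕ∞) := by
        push_cast
        exact h1.trans h2
      have h4 : D + 1 ≤ N + 1 := by exact_mod_cast h3
      have := hD1 h0
      exact Polynomial.coeff_eq_zero_of_natDegree_lt (by omega)
  rw [hright, ← Finset.sum_attach S]
  refine Finset.sum_congr rfl fun P _ => ?_
  haveI : (P.1).IsPrime := ((hS P.1).1 P.2).1.1
  simp only [F, dif_pos (inferInstance : (P.1).IsPrime)]

/-- Linked ideals: the degree-`N` coefficients add up. -/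
theorem coeff_link (c I : Ideal Pol) [LocCoh.IsGorensteinRing (Pol ⧸ c)]
    (hc : c.IsHomogeneous (CohB1.polyGrading n k)) (hI : I.IsHomogeneous (CohB1.polyGrading n k))
    (hJ : (c.colon (I : Set Pol)).IsHomogeneous (CohB1.polyGrading n k)) (hcI : c ≤ I) (N : ℕ)
    (hdim : ringKrullDim (Pol ⧸ c) ≤ ((N + 1 : ℕ) : WithBot ℕ∞)) {pc pI pJ : Polynomial ℚ}
    (hpc : ∀ᶠ j : ℕ in atTop, pc.eval (j : ℚ) = HSLib.hilb c j)
    (hpI : ∀ᶠ j : ℕ in atTop, pI.eval (j : ℚ) = HSLib.hilb I j)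
    (hpJ : ∀ᶠ j : ℕ in atTop, pJ.eval (j : ℚ) = HSLib.hilb (c.colon (I : Set Pol)) j) :
    pJ.coeff N = pc.coeff N - pI.coeff N := by
  classical
  let S : Finset (Ideal Pol) := (Ideal.finite_minimalPrimes_of_isNoetherianRing Pol c).toFinset
  have hS : ∀ P, P ∈ S ↔ P ∈ c.minimalPrimes := fun q => Set.Finite.mem_toFinset _
  obtain ⟨d, hd⟩ := coeff_eq_sum c hc N hdim S hS
  have hN : (N.factorial : ℚ) ≠ 0 := by exact_mod_cast N.factorial_ne_zero
  refine mul_left_cancel₀ hN ?_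
  rw [mul_sub, hd _ hJ (LiaisonLib.le_colon c I) _ hpJ, hd _ hc le_rfl _ hpc, hd _ hI hcI _ hpI,
    ← Finset.sum_sub_distrib]
  refine Finset.sum_congr rfl fun P _ => ?_
  haveI : (P.1).IsPrime := ((hS P.1).1 P.2).1.1
  obtain ⟨hadd, hfin⟩ := lenAt_link c I hcI P.1 ((hS P.1).1 P.2)
  rw [← hadd] at hfin
  rw [← mul_sub, ← hadd, ENat.toNat_add (fun h => hfin (by rw [h, top_add])) (fun h => hfin (by rw [h, add_top]))]
  push_cast
  ring

end Groth.Agent.LinkDegLib
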